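import Groth.Agent.TorFactor.Ring
import Groth.Agent.S11444
import Mathlib.AlgebraicGeometry.Morphisms.Smooth
import Mathlib.RingTheory.RingHom.Smooth
import Mathlib.RingTheory.Smooth.Basic

/-!
# Local factorisation of a morphism of finite tor dimension
-/

set_option autoImplicit false
set_option linter.style.haveILetI false

universe u

open CategoryTheory AlgebraicGeometry TopologicalSpace

attribute [local instance] HasDerivedCategory.standard

noncomputable section

namespace Groth.Agent.TorFactor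

/-- The stalk of the structure sheaf in degree zero, over the base. -/
theorem nonempty_stalkCxIso {X Y : Scheme.{u}} (f : X ⟶ Y) (x : X) :
    letI := (f.stalkMap x).hom.toAlgebra
    Nonempty (DRing.toD ((DerSch.stalkCxOver f x).obj (DerSch.unitCx X)) ≅
      Dual.inD (Y.presheaf.stalk (f x)) (X.presheaf.stalk x)) := by
  letI := (f.stalkMap x).hom.toAlgebra
  obtain ⟨ε⟩ := S11444.exists_unitStalkEquiv x
  let e' : ((DerSch.stalkOver f x).obj (Coh.structureModule X) : ModuleCat.{u} (Y.presheaf.stalk (f x))) ≃ₗ[Y.presheaf.stalk (f x)]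
      X.presheaf.stalk x :=
    { toFun := fun v => ε v
      invFun := fun v => ε.symm v
      left_inv := fun v => ε.symm_apply_apply v
      right_inv := fun v => ε.apply_symm_apply v
      map_add' := fun a b => map_add ε a b
      map_smul' := fun r v => ε.map_smul ((f.stalkMap x).hom r) (show (DerSch.stalkFunctor X x).obj (Coh.structureModule X) from v) }
  exact ⟨(DerivedCategory.Q.mapIso ((HomologicalComplex.singleMapHomologicalComplex (DerSch.stalkOver f x)
      (ComplexShape.up ℤ) 0).app _)) ≪≫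
    ((DerivedCategory.singleFunctorIsoCompQ (ModuleCat.{u} (Y.presheaf.stalk (f x))) 0).app _).symm ≪≫
    (DerivedCategory.singleFunctor (ModuleCat.{u} (Y.presheaf.stalk (f x))) 0).mapIso e'.toModuleIso⟩

/-- A tor amplitude of a module bounds its tor dimension. -/
theorem hasTorDimLE_of_amplitude {A : Type u} [CommRing A] {M : Type u} [AddCommGroup M] [Module A M]
    {a b : ℤ} (h : DRing.HasTorAmplitudeIn A a b (Dual.inD A M)) : DRing.HasTorDimLE A (-a).toNat M := by
  obtain ⟨P, hb, hproj, ⟨e⟩⟩ := DRing.Trunc.exists_projRep (Dual.inD A M) 0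
    (fun i hi => DRing.PC.subsingleton_HD_inD A M i (by omega))
  have hP := DRing.TorAmp.isKFlat_of_projective hb hproj
  rw [DRing.TorAmp.hasTorAmp_iff hP e] at h
  intro N _ _ p hp
  obtain ⟨k, rfl⟩ : ∃ k, p = k + 1 := ⟨p - 1, by omega⟩
  exact (DRing.TorBalance.subsingleton_tor_iff_left hP e N k).2 (h (ModuleCat.of A N) _ (Or.inl (by omega)))

/-- Tor dimension of a local ring of an open subscheme. -/
theorem hasTorDimLE_open {X Y : Scheme.{u}} (f : X ⟶ Y) (U : X.Opens) (x : (U : Scheme.{u})) (d : ℕ)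
    (h : letI := (f.stalkMap (U.ι x)).hom.toAlgebra
      DRing.HasTorDimLE (Y.presheaf.stalk (f (U.ι x))) d (X.presheaf.stalk (U.ι x))) :
    letI := ((U.ι ≫ f).stalkMap x).hom.toAlgebra
    DRing.HasTorDimLE (Y.presheaf.stalk ((U.ι ≫ f) x)) d ((U : Scheme.{u}).presheaf.stalk x) := by
  letI := (f.stalkMap (U.ι x)).hom.toAlgebra
  letI algU : Algebra (Y.presheaf.stalk (f (U.ι x))) ((U : Scheme.{u}).presheaf.stalk x) :=
    ((U.ι ≫ f).stalkMap x).hom.toAlgebra
  let e : X.presheaf.stalk (U.ι x) ≃ₗ[Y.presheaf.stalk (f (U.ι x))] (U : Scheme.{u}).presheaf.stalk x :=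
    { (asIso (U.ι.stalkMap x)).commRingCatIsoToRingEquiv with
      map_smul' := fun r v => by
        show (U.ι.stalkMap x).hom ((f.stalkMap (U.ι x)).hom r * v) =
          ((U.ι ≫ f).stalkMap x).hom r * (U.ι.stalkMap x).hom v
        rw [map_mul, Scheme.Hom.stalkMap_comp]
        rfl }
  have h2 := FlatMor.PC.hasTorDimLE_congr e h
  exact h2

/-- The map on germs through an affine chart. -/
theorem germ_fromSpec_comp {X Y : Scheme.{u}} {V : Y.Opens} (hV : IsAffineOpen V) {P : CommRingCat.{u}}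
    (g : X ⟶ Spec P) (c : Γ(Y, V) ⟶ P) (x : X) (hy : (g ≫ Spec.map c ≫ hV.fromSpec) x ∈ V) :
    Y.presheaf.germ V _ hy ≫ (g ≫ Spec.map c ≫ hV.fromSpec).stalkMap x =
      c ≫ (Scheme.ΓSpecIso P).inv ≫ g.appTop ≫ X.presheaf.germ ⊤ x trivial := by
  have hV' : hV.fromSpec ⁻¹ᵁ V = ⊤ := hV.fromSpec_preimage_self
  let k := g ≫ Spec.map c
  have e1 : k.appTop = (Spec.map c).appTop ≫ g.appTop := Scheme.Hom.comp_appTop _ _
  have key : hV.fromSpec.app V ≫ k.app (hV.fromSpec ⁻¹ᵁ V) ≫ X.presheaf.germ (k ⁻¹ᵁ hV.fromSpec ⁻¹ᵁ V) x hy =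
      (Scheme.ΓSpecIso Γ(Y, V)).inv ≫ k.appTop ≫ X.presheaf.germ ⊤ x trivial := by
    rw [IsAffineOpen.fromSpec_app_self, Category.assoc]
    refine congrArg ((Scheme.ΓSpecIso Γ(Y, V)).inv ≫ ·) ?_
    rw [← Category.assoc, k.naturality, Category.assoc]
    exact congrArg (k.appTop ≫ ·) (X.presheaf.germ_res _ x hy)
  have e2 : c ≫ (Scheme.ΓSpecIso P).inv ≫ g.appTop ≫ X.presheaf.germ ⊤ x trivial =
      (Scheme.ΓSpecIso Γ(Y, V)).inv ≫ k.appTop ≫ X.presheaf.germ ⊤ x trivial := by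
    rw [e1, Category.assoc]
    exact (reassoc_of% Scheme.ΓSpecIso_inv_naturality c) _
  refine ((Scheme.Hom.germ_stalkMap _ V x hy).trans ?_).trans e2.symm
  refine Eq.trans ?_ key
  simp only [k, Scheme.Hom.comp_app, Category.assoc]
  rfl

theorem exists_factor {X Y : Scheme.{u}} (f : X ⟶ Y) [LocallyOfFiniteType f] (hf : DerSch.HasFiniteTorDim f)
    (U : X.Opens) (hU : IsAffineOpen U) (V : Y.Opens) (hV : IsAffineOpen V) (hUV : U ≤ f ⁻¹ᵁ V) :
    ∃ (W : Scheme.{u}) (g : (U : Scheme.{u}) ⟶ W) (h : W ⟶ Y),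
      IsClosedImmersion g ∧ DerSch.HasFiniteTorDim g ∧ Smooth h ∧ g ≫ h = U.ι ≫ f := by
  letI algAB : Algebra Γ(Y, V) Γ(X, U) := (f.appLE V U hUV).hom.toAlgebra
  haveI : Algebra.FiniteType Γ(Y, V) Γ(X, U) := f.finiteType_appLE hV hU hUV
  obtain ⟨n, π, hπ⟩ := (Algebra.FiniteType.iff_quotient_mvPolynomial'' (R := Γ(Y, V)) (S := Γ(X, U))).mp inferInstance
  let P : CommRingCat.{u} := CommRingCat.of (MvPolynomial (Fin n) Γ(Y, V))
  let cC : Γ(Y, V) ⟶ P := CommRingCat.ofHom MvPolynomial.C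
  let g : (U : Scheme.{u}) ⟶ Spec P := hU.isoSpec.hom ≫ Spec.map (CommRingCat.ofHom π.toRingHom)
  have hsm : Smooth (Spec.map cC ≫ hV.fromSpec) := by
    have : Smooth (Spec.map cC) := by
      rw [HasRingHomProperty.Spec_iff (P := @Smooth)]
      exact RingHom.smooth_algebraMap.2 ⟨inferInstance, inferInstance⟩
    infer_instance
  have hcl : IsClosedImmersion g := by
    have : IsClosedImmersion (Spec.map (CommRingCat.ofHom π.toRingHom)) :=
      IsClosedImmersion.spec_of_surjective _ hπ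
    infer_instance
  have hgh : g ≫ Spec.map cC ≫ hV.fromSpec = U.ι ≫ f := by
    have e : cC ≫ CommRingCat.ofHom π.toRingHom = f.appLE V U hUV := by
      ext a
      exact π.commutes a
    rw [Category.assoc, ← Spec.map_comp_assoc, e, IsAffineOpen.SpecMap_appLE_fromSpec f hV hU hUV,
      ← Category.assoc, IsAffineOpen.isoSpec_hom_fromSpec]
  obtain ⟨a, b, hab⟩ := hf
  let d := (-a).toNat
  have key : ∀ x : U, letI := (g.stalkMap x).hom.toAlgebra
      DRing.HasTorDimLE ((Spec P).presheaf.stalk (g x)) (d + n) ((U : Scheme.{u}).presheaf.stalk x) := by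
    intro x
    let C := (U : Scheme.{u}).presheaf.stalk x
    have hd : letI := ((U.ι ≫ f).stalkMap x).hom.toAlgebra
        DRing.HasTorDimLE (Y.presheaf.stalk ((U.ι ≫ f) x)) d C := by
      letI := (f.stalkMap (U.ι x)).hom.toAlgebra
      obtain ⟨i⟩ := nonempty_stalkCxIso f (U.ι x)
      exact hasTorDimLE_open f U x d
        (hasTorDimLE_of_amplitude (Groth.Agent.DRing.TorAmp.torAmp_of_iso i (hab (U.ι x))))
    rw [← hgh] at hd
    have hy : (g ≫ Spec.map cC ≫ hV.fromSpec) x ∈ V := by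
      rw [hgh]
      exact hUV x.2
    let k : (U : Scheme.{u}) ⟶ Spec Γ(Y, V) := g ≫ Spec.map cC
    have hk : g ≫ Spec.map cC ≫ hV.fromSpec = k ≫ hV.fromSpec := (Category.assoc _ _ _).symm
    -- the algebra structures on the local ring
    let τ : P ⟶ C := (Scheme.ΓSpecIso P).inv ≫ g.appTop ≫ (U : Scheme.{u}).presheaf.germ ⊤ x trivial
    have hτ : cC ≫ τ = Y.presheaf.germ V _ hy ≫ (g ≫ Spec.map cC ≫ hV.fromSpec).stalkMap x :=
      (germ_fromSpec_comp hV g cC x hy).symm
    letI algA : Algebra Γ(Y, V) (Y.presheaf.stalk ((g ≫ Spec.map cC ≫ hV.fromSpec) x)) :=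
      TopCat.Presheaf.algebra_section_stalk Y.presheaf ⟨_, hy⟩
    haveI := hV.isLocalization_stalk ⟨_, hy⟩
    letI algP : Algebra P C := τ.hom.toAlgebra
    letI algAC : Algebra Γ(Y, V) C := (cC ≫ τ).hom.toAlgebra
    letI algSC := ((g ≫ Spec.map cC ≫ hV.fromSpec).stalkMap x).hom.toAlgebra
    haveI : IsScalarTower Γ(Y, V) (Y.presheaf.stalk ((g ≫ Spec.map cC ≫ hV.fromSpec) x)) C :=
      IsScalarTower.of_algebraMap_eq fun r => congrArg (fun φ => φ.hom r) hτ
    have h0 : DRing.HasTorDimLE Γ(Y, V) d C :=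
      hasTorDimLE_of_localization d (hV.primeIdealOf ⟨_, hy⟩).asIdeal.primeCompl hd
    letI algP' : Algebra (MvPolynomial (Fin n) Γ(Y, V)) C := algP
    haveI : IsScalarTower Γ(Y, V) (MvPolynomial (Fin n) Γ(Y, V)) C := IsScalarTower.of_algebraMap_eq fun r => rfl
    have h1 : DRing.HasTorDimLE (MvPolynomial (Fin n) Γ(Y, V)) (d + n) C := hasTorDimLE_poly n d h0
    letI := (g.stalkMap x).hom.toAlgebra
    letI algPS : Algebra P ((Spec P).presheaf.stalk (g x)) :=
      ((Scheme.ΓSpecIso P).inv ≫ (Spec P).presheaf.germ ⊤ (g x) trivial).hom.toAlgebra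
    haveI : IsScalarTower P ((Spec P).presheaf.stalk (g x)) C := IsScalarTower.of_algebraMap_eq fun r => by
      show τ.hom r = (g.stalkMap x).hom ((Spec P).presheaf.germ ⊤ (g x) trivial ((Scheme.ΓSpecIso P).inv r))
      exact (Scheme.Hom.germ_stalkMap_apply g ⊤ x trivial _).symm
    haveI hq : (g x).asIdeal.IsPrime := (g x).isPrime
    haveI : IsLocalization.AtPrime ((Spec P).presheaf.stalk (g x)) (g x).asIdeal :=
      StructureSheaf.IsLocalization.to_stalk _ (g x)
    exact GITLib.TorSmooth.hasTorDimLE_of_localization_base (d + n) (g x).asIdeal.primeCompl h1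
  refine ⟨Spec P, g, Spec.map cC ≫ hV.fromSpec, hcl, ?_, hsm, hgh⟩
  refine ⟨-((d + n : ℕ) : ℤ), 0, fun x => ?_⟩
  letI := (g.stalkMap x).hom.toAlgebra
  obtain ⟨i⟩ := nonempty_stalkCxIso g x
  exact Groth.Agent.DRing.TorAmp.torAmp_of_iso i.symm ((Groth.Agent.DRing.TorBalance.hasTorDimLE_iff (d + n) _).1 (key x))

end Groth.Agent.TorFactor
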