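import Groth.Agent.GITLib.TorSmooth.Ring

/-!
# Tor dimension over a polynomial algebra
-/

set_option autoImplicit false
set_option linter.style.haveILetI false

universe u

open CategoryTheory
open scoped TensorProduct

attribute [local instance] HasDerivedCategory.standard
attribute [local instance] MvPolynomial.algebraMvPolynomial

namespace Groth.Agent.TorFactor

/-- Over a polynomial algebra in `n` variables the tor dimension goes up by at most `n`. -/
theorem hasTorDimLE_poly (n d : ℕ) {A C : Type u} [CommRing A] [CommRing C] [Algebra A C]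
    [Algebra (MvPolynomial (Fin n) A) C] [IsScalarTower A (MvPolynomial (Fin n) A) C]
    (h : DRing.HasTorDimLE A d C) : DRing.HasTorDimLE (MvPolynomial (Fin n) A) (d + n) C := by
  let P := MvPolynomial (Fin n) A
  let π : MvPolynomial (Fin n) C →ₐ[C] C := MvPolynomial.aeval fun i => algebraMap P C (MvPolynomial.X i)
  letI := π.toRingHom.toAlgebra
  haveI : IsScalarTower C (MvPolynomial (Fin n) C) C := IsScalarTower.of_algebraMap_eq fun x => (π.commutes x).symm
  letI : Algebra P (MvPolynomial (Fin n) C) := MvPolynomial.algebraMvPolynomial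
  letI : Module P (MvPolynomial (Fin n) C) := Algebra.toModule
  letI : SMul P (MvPolynomial (Fin n) C) := Algebra.toSMul
  haveI : IsScalarTower P (MvPolynomial (Fin n) C) C := by
    refine IsScalarTower.of_algebraMap_eq' ?_
    refine MvPolynomial.ringHom_ext (fun r => ?_) fun i => ?_
    · show algebraMap P C (MvPolynomial.C r) = π (MvPolynomial.map (algebraMap A C) (MvPolynomial.C r))
      rw [MvPolynomial.map_C, MvPolynomial.aeval_C, Algebra.algebraMap_self, RingHom.id_apply,
        ← MvPolynomial.algebraMap_eq, ← IsScalarTower.algebraMap_apply]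
    · show algebraMap P C (MvPolynomial.X i) = π (MvPolynomial.map (algebraMap A C) (MvPolynomial.X i))
      rw [MvPolynomial.map_X, MvPolynomial.aeval_X]
  have hb : IsBaseChange P (IsScalarTower.toAlgHom A C (MvPolynomial (Fin n) C)).toLinearMap :=
    Algebra.IsPushout.out
  have hP : DRing.HasTorDimLE P d (MvPolynomial (Fin n) C) :=
    FlatMor.PC.hasTorDimLE_congr hb.equiv (FlatMor.PC.hasTorDimLE_tensor h)
  exact FlatMor.PC.hasTorDimLE_trans hP (GITLib.TorSmooth.hasTorDimLE_section C n)

/-- Passing from a localisation of the base down to the base. -/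
theorem hasTorDimLE_of_localization (d : ℕ) {A A' C : Type u} [CommRing A] [CommRing A'] [CommRing C]
    [Algebra A A'] [Algebra A C] [Algebra A' C] [IsScalarTower A A' C] (M : Submonoid A)
    [IsLocalization M A'] (h : DRing.HasTorDimLE A' d C) : DRing.HasTorDimLE A d C := by
  have : Module.Flat A A' := IsLocalization.flat A' M
  have h' := FlatMor.PC.hasTorDimLE_trans (FlatMor.PC.hasTorDimLE_of_flat (A := A) 0 A') h
  rwa [Nat.zero_add] at h'

end Groth.Agent.TorFactor
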